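import Groth.Agent.S7827

/-! Triviality descends along isomorphisms. -/

universe u
open AlgebraicGeometry CategoryTheory Limits

namespace Groth.Agent.Cube1490

theorem trivial_of_pullback_iso {A B : Scheme.{u}} (i : A ⟶ B) [IsIso i] (L : B.Modules)
    (e : (Scheme.Modules.pullback i).obj L ≅ Coh.structureModule A) :
    Nonempty (L ≅ Coh.structureModule B) := by
  refine ⟨?_ ≪≫ (Scheme.Modules.pullback (inv i)).mapIso e ≪≫ ?_⟩
  · exact ((Scheme.Modules.pullbackId B).app L).symm ≪≫
      (Scheme.Modules.pullbackCongr (IsIso.inv_hom_id i).symm).app L ≪≫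
      ((Scheme.Modules.pullbackComp (inv i) i).app L).symm
  · exact (PicClLib.nonempty_pullback_structureModule (inv i)).some

end Groth.Agent.Cube1490
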